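import Mathlib

set_option autoImplicit false
set_option linter.style.haveILetI false
universe u
open TensorProduct

namespace Groth.Agent.Helper19.BddF

section ringlevel

variable {R S : Type u} [CommRing R] [CommRing S] [Algebra R S]

/-- Step (i): if `S'[1/r] → S[1/r]` is surjective, a power of `r` moves any `s` into `S'`. -/
theorem exists_pow_mul_mem (S' : Subalgebra R S) (r : S')
    (hb : Function.Surjective (Localization.awayMap S'.val.toRingHom r)) (s : S) :
    ∃ N : ℕ, (r.1) ^ N * s ∈ S' := by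
  obtain ⟨x, hx⟩ := hb (algebraMap S (Localization.Away (S'.val.toRingHom r)) s)
  obtain ⟨s', ⟨_, a, rfl⟩, rfl⟩ := IsLocalization.exists_mk'_eq (Submonoid.powers r) x
  rw [Localization.awayMap, IsLocalization.Away.map, IsLocalization.map_mk',
    IsLocalization.mk'_eq_iff_eq_mul, ← map_mul,
    IsLocalization.eq_iff_exists (Submonoid.powers (S'.val.toRingHom r))] at hx
  obtain ⟨⟨_, b, rfl⟩, hc⟩ := hx
  refine ⟨b + a, ?_⟩
  have h1 : (r.1) ^ (b + a) * s = ((r ^ b * s' : S') : S) := by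
    have h2 : (S'.val.toRingHom r) = r.1 := rfl
    simp only [h2] at hc
    have h3 : (S'.val.toRingHom s') = (s' : S) := rfl
    rw [h3] at hc
    have h4 : ((S'.val.toRingHom) (r ^ a) : S) = r.1 ^ a := by
      rw [map_pow]; rfl
    simp only [h4] at hc
    push_cast
    rw [hc, pow_add]; ring
  rw [h1]
  exact (r ^ b * s').2

variable (k : Type u) [Field k] [Algebra R k]

/-- the base change of the inclusion `S' ⊆ S`. -/
noncomputable def iotaK (S' : Subalgebra R S) : k ⊗[R] S' →ₐ[k] k ⊗[R] S :=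
  Algebra.TensorProduct.map (AlgHom.id k k) S'.val

theorem iotaK_tmul (S' : Subalgebra R S) (c : k) (s : S') :
    iotaK k S' (c ⊗ₜ s) = c ⊗ₜ (s : S) := by
  unfold iotaK
  rw [Algebra.TensorProduct.map_tmul]
  rfl

/-- Step (ii). -/
theorem exists_pow_mul_mem_range (S' : Subalgebra R S) (r : S')
    (hb : Function.Surjective (Localization.awayMap S'.val.toRingHom r)) (a : k ⊗[R] S) :
    ∃ N : ℕ, ((1 : k) ⊗ₜ[R] (r.1 : S)) ^ N * a ∈ (iotaK k S').range := by
  have ht : ((1 : k) ⊗ₜ[R] (r.1 : S)) ∈ (iotaK k S').range := ⟨1 ⊗ₜ r, iotaK_tmul k S' 1 r⟩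
  induction a with
  | zero => exact ⟨0, by rw [mul_zero]; exact Subalgebra.zero_mem _⟩
  | tmul c s =>
    obtain ⟨N, hN⟩ := exists_pow_mul_mem S' r hb s
    refine ⟨N, ⟨c ⊗ₜ ⟨_, hN⟩, ?_⟩⟩
    show iotaK k S' _ = _
    rw [iotaK_tmul, Algebra.TensorProduct.tmul_pow, one_pow, Algebra.TensorProduct.tmul_mul_tmul,
      one_mul]
  | add a₁ a₂ h₁ h₂ =>
    obtain ⟨N₁, h₁⟩ := h₁
    obtain ⟨N₂, h₂⟩ := h₂
    refine ⟨N₁ + N₂, ?_⟩
    have : ((1 : k) ⊗ₜ[R] (r.1 : S)) ^ (N₁ + N₂) * (a₁ + a₂) =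
        ((1 : k) ⊗ₜ[R] (r.1 : S)) ^ N₂ * (((1 : k) ⊗ₜ[R] (r.1 : S)) ^ N₁ * a₁) +
        ((1 : k) ⊗ₜ[R] (r.1 : S)) ^ N₁ * (((1 : k) ⊗ₜ[R] (r.1 : S)) ^ N₂ * a₂) := by
      rw [pow_add]; ring
    rw [this]
    exact Subalgebra.add_mem _ (Subalgebra.mul_mem _ (Subalgebra.pow_mem _ ht _) h₁)
      (Subalgebra.mul_mem _ (Subalgebra.pow_mem _ ht _) h₂)

/-- Step (iii): `k ⊗ S' → (k ⊗ S)[1/t]` is surjective when `S'` is a finite `R`-module. -/
theorem surjective_to_away (S' : Subalgebra R S) [Module.Finite R S'] (r : S')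
    (hb : Function.Surjective (Localization.awayMap S'.val.toRingHom r)) :
    Function.Surjective ((IsScalarTower.toAlgHom k (k ⊗[R] S)
      (Localization.Away ((1 : k) ⊗ₜ[R] (r.1 : S)))).comp (iotaK k S')) := by
  obtain ⟨t, ht⟩ : ∃ t : k ⊗[R] S, t = (1 : k) ⊗ₜ[R] (r.1 : S) := ⟨_, rfl⟩
  rw [← ht]
  obtain ⟨u, hu⟩ : ∃ u : k ⊗[R] S', u = (1 : k) ⊗ₜ[R] r := ⟨_, rfl⟩
  have hιu : iotaK k S' u = t := by rw [hu, ht, iotaK_tmul]
  haveI : Module.Finite k (k ⊗[R] S') := Module.Finite.base_change R k S'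
  haveI : IsArtinianRing (k ⊗[R] S') := IsArtinianRing.of_finite k _
  obtain ⟨θ, hθ⟩ : ∃ θ : k ⊗[R] S' →ₐ[k] Localization.Away t,
    θ = (IsScalarTower.toAlgHom k (k ⊗[R] S) (Localization.Away t)).comp (iotaK k S') := ⟨_, rfl⟩
  rw [← hθ]
  have hθa : ∀ b, θ b = algebraMap (k ⊗[R] S) (Localization.Away t) (iotaK k S' b) := by
    intro b; rw [hθ]; rfl
  have hunit : IsUnit (θ.toRingHom u) := by
    show IsUnit (θ u)
    rw [hθa, hιu]
    exact IsLocalization.Away.algebraMap_isUnit t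
  have hsurj : Function.Surjective (algebraMap (k ⊗[R] S') (Localization.Away u)) :=
    IsArtinianRing.localization_surjective (Submonoid.powers u) _
  intro x
  obtain ⟨a, ⟨_, M, rfl⟩, rfl⟩ := IsLocalization.exists_mk'_eq (Submonoid.powers t) x
  obtain ⟨N, b, hb'0⟩ := exists_pow_mul_mem_range k S' r hb a
  rw [← ht] at hb'0
  have hb' : iotaK k S' b = t ^ N * a := hb'0
  -- element of `Away u`
  obtain ⟨b', hb''⟩ := hsurj (IsLocalization.mk' (Localization.Away u) b
    (⟨u ^ (N + M), N + M, rfl⟩ : Submonoid.powers u))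
  refine ⟨b', ?_⟩
  have h1 : algebraMap (k ⊗[R] S') (Localization.Away u) b' *
      algebraMap (k ⊗[R] S') (Localization.Away u) (u ^ (N + M)) =
      algebraMap (k ⊗[R] S') (Localization.Away u) b := by
    rw [hb'']
    exact IsLocalization.mk'_spec _ _ _
  rw [← map_mul] at h1
  have h2 := congrArg (IsLocalization.Away.lift u hunit) h1
  rw [IsLocalization.Away.lift_eq, IsLocalization.Away.lift_eq] at h2
  have h3 : θ (b' * u ^ (N + M)) = θ b := h2
  rw [map_mul, map_pow, hθa u, hιu, hθa b, hb', map_mul, map_pow] at h3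
  -- cancel the unit
  have hut : IsUnit (algebraMap (k ⊗[R] S) (Localization.Away t) t) :=
    IsLocalization.Away.algebraMap_isUnit t
  rw [IsLocalization.eq_mk'_iff_mul_eq]
  have h4 : θ b' * algebraMap (k ⊗[R] S) (Localization.Away t) t ^ M *
      algebraMap (k ⊗[R] S) (Localization.Away t) t ^ N =
      algebraMap (k ⊗[R] S) (Localization.Away t) a *
      algebraMap (k ⊗[R] S) (Localization.Away t) t ^ N := by
    rw [mul_assoc, ← pow_add, add_comm M N, h3, mul_comm]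
  have h5 := (hut.pow N).mul_left_injective h4
  rw [← h5, map_pow]

end ringlevel

end Groth.Agent.Helper19.BddF
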