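import Mathlib
import Groth.Agent.Lib.Helper19.BddF.Ring

set_option autoImplicit false
set_option linter.style.haveILetI false
universe u
open TensorProduct

namespace Groth.Agent.Helper19.BddF

section bound

variable {R S : Type u} [CommRing R] [CommRing S] [Algebra R S]
variable (k : Type u) [Field k] [Algebra R k]

/-- (v) -/
theorem finrank_baseChange_le (M : Type u) [AddCommGroup M] [Module R M] (m : ℕ) (s : Fin m → M)
    (hs : Submodule.span R (Set.range s) = ⊤) : Module.finrank k (k ⊗[R] M) ≤ m := by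
  have h : Submodule.span k (Set.range fun i => (1 : k) ⊗ₜ[R] s i) = ⊤ := by
    have := Submodule.baseChange_span (R := R) k (Set.range s)
    rw [hs, Submodule.baseChange_top] at this
    rw [this, ← Set.range_comp]
    rfl
  have := finrank_le_of_span_eq_top h
  simpa using this

/-- (vi) -/
theorem finrank_le_sum_away {A : Type u} [CommRing A] [Algebra k A] {J : Type u} [Fintype J]
    (t : J → A) (ht : Ideal.span (Set.range t) = ⊤) (m : J → ℕ)
    (hfin : ∀ j, Module.Finite k (Localization.Away (t j)))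
    (hm : ∀ j, Module.finrank k (Localization.Away (t j)) ≤ m j) :
    Module.Finite k A ∧ Module.finrank k A ≤ ∑ j, m j := by
  obtain ⟨Λ, hΛ⟩ : ∃ Λ : A →ₗ[k] (∀ j, Localization.Away (t j)), Λ = LinearMap.pi fun j =>
    (IsScalarTower.toAlgHom k A (Localization.Away (t j))).toLinearMap := ⟨_, rfl⟩
  have hinj : Function.Injective Λ := by
    rw [← LinearMap.ker_eq_bot, LinearMap.ker_eq_bot']
    intro a ha
    have h1 : ∀ j, ∃ N : ℕ, t j ^ N * a = 0 := by
      intro j
      have h0 : algebraMap A (Localization.Away (t j)) a = 0 := by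
        have := congrFun ha j
        rw [hΛ] at this
        exact this
      rw [IsLocalization.map_eq_zero_iff (Submonoid.powers (t j))] at h0
      obtain ⟨⟨_, N, rfl⟩, hN⟩ := h0
      exact ⟨N, hN⟩
    choose N hN using h1
    have h2 : ∀ j, t j ^ (Finset.univ.sup N) * a = 0 := by
      intro j
      have : N j ≤ Finset.univ.sup N := Finset.le_sup (Finset.mem_univ j)
      rw [← Nat.sub_add_cancel this, pow_add, mul_assoc, hN, mul_zero]
    have h3 := Ideal.span_pow_eq_top _ ht (Finset.univ.sup N)
    have h5 : (1 : A) ∈ Ideal.span ((fun x => x ^ (Finset.univ.sup N)) '' Set.range t) := by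
      rw [h3]; trivial
    have h6 : ∀ x ∈ Ideal.span ((fun x => x ^ (Finset.univ.sup N)) '' Set.range t), x * a = 0 := by
      intro x hx
      induction hx using Submodule.span_induction with
      | mem x hx =>
        obtain ⟨_, ⟨j, rfl⟩, rfl⟩ := hx
        exact h2 j
      | zero => rw [zero_mul]
      | add x y _ _ hx hy => rw [add_mul, hx, hy, add_zero]
      | smul c x _ hx => rw [smul_eq_mul, mul_assoc, hx, mul_zero]
    have := h6 1 h5
    rwa [one_mul] at this
  haveI := hfin
  haveI : Module.Finite k (∀ j, Localization.Away (t j)) := inferInstance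
  haveI : Module.Finite k A := Module.Finite.of_injective Λ hinj
  refine ⟨inferInstance, ?_⟩
  calc Module.finrank k A ≤ Module.finrank k (∀ j, Localization.Away (t j)) :=
        LinearMap.finrank_le_finrank_of_injective hinj
    _ = ∑ j, Module.finrank k (Localization.Away (t j)) := Module.finrank_pi_fintype k
    _ ≤ ∑ j, m j := Finset.sum_le_sum fun j _ => hm j

end bound

/-- **Uniform bound for fibre degrees of a quasi-finite algebra of finite type.** -/
theorem exists_bound_finrank (R S : Type u) [CommRing R] [CommRing S] [Algebra R S]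
    [Algebra.FiniteType R S] [Algebra.QuasiFinite R S] :
    ∃ n : ℕ, ∀ (k : Type u) [Field k] [Algebra R k],
      Module.Finite k (k ⊗[R] S) ∧ Module.finrank k (k ⊗[R] S) ≤ n := by
  have H : ∀ q : PrimeSpectrum S, ∃ S' : Subalgebra R S, S'.toSubmodule.FG ∧ ∃ r : S',
      r.1 ∉ q.asIdeal ∧ Function.Bijective (Localization.awayMap S'.val.toRingHom r) :=
    fun q => Algebra.QuasiFiniteAt.exists_fg_and_exists_notMem_and_awayMap_bijective q.asIdeal
  choose S' hfg r hr hbij using H
  have hspan : Ideal.span (Set.range fun q => ((r q).1 : S)) = ⊤ := by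
    by_contra hne
    obtain ⟨m, hm, hle⟩ := Ideal.exists_le_maximal _ hne
    exact hr ⟨m, hm.isPrime⟩ (hle (Ideal.subset_span ⟨⟨m, hm.isPrime⟩, rfl⟩))
  obtain ⟨s', hs', hs'top⟩ := (Ideal.span_eq_top_iff_finite _).mp hspan
  have hq : ∀ x : s', ∃ q, ((r q).1 : S) = x.1 := fun x => hs' x.2
  choose qf hqf using hq
  have hfinS' : ∀ q, Module.Finite R (S' q) := fun q =>
    ⟨(Submodule.fg_top _).mpr (hfg q)⟩
  have hm : ∀ q, ∃ (m : ℕ) (g : Fin m → S' q), Submodule.span R (Set.range g) = ⊤ := fun q => by
    haveI := hfinS' q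
    exact Module.Finite.exists_fin
  choose m g hg using hm
  refine ⟨∑ x : s', m (qf x), ?_⟩
  intro k _ _
  haveI := hfinS'
  have hsurj : ∀ x : s', Function.Surjective ((IsScalarTower.toAlgHom k (k ⊗[R] S)
      (Localization.Away ((1 : k) ⊗ₜ[R] ((r (qf x)).1 : S)))).comp (iotaK k (S' (qf x)))) :=
    fun x => surjective_to_away k (S' (qf x)) (r (qf x)) (hbij (qf x)).2
  haveI hfinB : ∀ q, Module.Finite k (k ⊗[R] (S' q)) := fun q => Module.Finite.base_change R k _
  refine finrank_le_sum_away k (fun x : s' => (1 : k) ⊗ₜ[R] ((r (qf x)).1 : S)) ?_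
    (fun x => m (qf x)) ?_ ?_
  · have h1 : Set.range (fun x : s' => (1 : k) ⊗ₜ[R] ((r (qf x)).1 : S)) =
        (Algebra.TensorProduct.includeRight : S →ₐ[R] k ⊗[R] S).toRingHom '' (s' : Set S) := by
      ext z
      constructor
      · rintro ⟨x, rfl⟩
        refine ⟨x.1, x.2, ?_⟩
        show _ = (1 : k) ⊗ₜ[R] ((r (qf x)).1 : S)
        rw [hqf x]; rfl
      · rintro ⟨y, hy, rfl⟩
        refine ⟨⟨y, hy⟩, ?_⟩
        show (1 : k) ⊗ₜ[R] ((r (qf ⟨y, hy⟩)).1 : S) = _
        rw [hqf ⟨y, hy⟩]; rfl
    rw [h1, ← Ideal.map_span, hs'top, Ideal.map_top]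
  · intro x
    exact Module.Finite.of_surjective
      ((IsScalarTower.toAlgHom k (k ⊗[R] S)
        (Localization.Away ((1 : k) ⊗ₜ[R] ((r (qf x)).1 : S)))).comp
          (iotaK k (S' (qf x)))).toLinearMap (hsurj x)
  · intro x
    calc Module.finrank k (Localization.Away ((1 : k) ⊗ₜ[R] ((r (qf x)).1 : S)))
        ≤ Module.finrank k (k ⊗[R] (S' (qf x))) :=
          LinearMap.finrank_le_finrank_of_surjective
            (f := ((IsScalarTower.toAlgHom k (k ⊗[R] S)
              (Localization.Away ((1 : k) ⊗ₜ[R] ((r (qf x)).1 : S)))).comp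
                (iotaK k (S' (qf x)))).toLinearMap) (hsurj x)
      _ ≤ m (qf x) := finrank_baseChange_le k _ _ (g (qf x)) (hg (qf x))

end Groth.Agent.Helper19.BddF
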