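import Mathlib
import Groth.Agent.Lib.Helper11.BddFib10
import Groth.Agent.Lib.Helper19.BddF.Bound

set_option autoImplicit false
set_option linter.style.haveILetI false
universe u
open CategoryTheory CategoryTheory.Limits AlgebraicGeometry TensorProduct

namespace Groth.Agent.Helper19.BddF

open Groth.Agent.Helper11.BddFibLib

theorem ringDegLE_of_isPushout_of_bound {R' S' B : CommRingCat.{u}} (k : Type u) [Field k]
    {φ : R' ⟶ S'} {γ : R' ⟶ CommRingCat.of k} {inl : S' ⟶ B} {inr : CommRingCat.of k ⟶ B}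
    (h : IsPushout φ γ inl inr) (n : ℕ)
    (hn : letI := φ.hom.toAlgebra
      ∀ (k : Type u) [Field k] [Algebra R' k],
        Module.Finite k (k ⊗[R'] S') ∧ Module.finrank k (k ⊗[R'] S') ≤ n) :
    RingDegLE inr n := by
  algebraize [φ.hom, γ.hom, inl.hom, inr.hom, inl.hom.comp φ.hom]
  have : IsScalarTower R' k B := .of_algebraMap_eq' <| congr($(h.1.1).hom)
  have h1 : Algebra.IsPushout R' S' k B := CommRingCat.isPushout_iff_isPushout.mp h
  have h2 : Algebra.IsPushout R' k S' B := h1.symm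
  let e : k ⊗[R'] S' ≃ₐ[k] B := Algebra.IsPushout.equiv R' k S' B
  obtain ⟨hfin, hrank⟩ := hn k
  haveI := hfin
  refine ⟨Module.Finite.equiv e.toLinearEquiv, ?_⟩
  show Module.finrank k B ≤ n
  rw [← e.toLinearEquiv.finrank_eq]
  exact hrank

theorem fibreDegLE_specMap {R' S' : CommRingCat.{u}} (φ : R' ⟶ S') (hft : φ.hom.FiniteType)
    (hqf : φ.hom.QuasiFinite) : ∃ n, BddFib.FibreDegLE (Spec.map φ) n := by
  algebraize [φ.hom]
  obtain ⟨n, hn⟩ := exists_bound_finrank R' S'
  refine ⟨n, ?_⟩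
  rw [fibreDegLE_iff_field]
  intro k _ g
  obtain ⟨γ, rfl⟩ := Spec.map_surjective g
  have hpb := IsPullback.of_hasPullback (Spec.map φ) (Spec.map γ)
  rw [finiteOfDegLE_iff]
  haveI : IsAffine (pullback (Spec.map φ) (Spec.map γ)) := inferInstance
  refine ⟨inferInstance, ?_⟩
  have hpush := isPushout_appTop_of_isPullback hpb
  have hpush' : IsPushout φ γ
      ((Scheme.ΓSpecIso S').inv ≫ (pullback.fst (Spec.map φ) (Spec.map γ)).appTop)
      ((Scheme.ΓSpecIso (CommRingCat.of k)).inv ≫
        (pullback.snd (Spec.map φ) (Spec.map γ)).appTop) := by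
    refine IsPushout.of_iso hpush (Scheme.ΓSpecIso R') (Scheme.ΓSpecIso S')
      (Scheme.ΓSpecIso (CommRingCat.of k)) (Iso.refl _) ?_ ?_ ?_ ?_
    · exact Scheme.ΓSpecIso_naturality φ
    · exact Scheme.ΓSpecIso_naturality γ
    · simp
    · simp
  exact ringDegLE_of_isPushout_of_bound k hpush' n hn

/-- a locally quasi-finite morphism locally of finite type between affine schemes has bounded
fibre degrees. -/
theorem exists_fibreDegLE_of_isAffine {A B : Scheme.{u}} [IsAffine A] [IsAffine B] (h : A ⟶ B)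
    [LocallyQuasiFinite h] [LocallyOfFiniteType h] : ∃ n, BddFib.FibreDegLE h n := by
  have hft : h.appTop.hom.FiniteType :=
    (HasRingHomProperty.iff_of_isAffine (P := @LocallyOfFiniteType)).mp inferInstance
  have hqf : h.appTop.hom.QuasiFinite :=
    (HasRingHomProperty.iff_of_isAffine (P := @LocallyQuasiFinite)).mp inferInstance
  obtain ⟨n, hn⟩ := fibreDegLE_specMap h.appTop hft hqf
  refine ⟨n, ?_⟩
  have hcomm : A.isoSpec.hom ≫ Spec.map h.appTop = h ≫ B.isoSpec.hom :=
    Scheme.isoSpec_hom_naturality h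
  have hpb : IsPullback A.isoSpec.hom h (Spec.map h.appTop) B.isoSpec.hom :=
    IsPullback.of_horiz_isIso ⟨hcomm⟩
  exact fibreDegLE_of_isPullback (Spec.map h.appTop) B.isoSpec.hom h A.isoSpec.hom hpb n hn

end Groth.Agent.Helper19.BddF
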