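import Mathlib
import Groth.Agent.Lib.Helper11.BddFib10

set_option autoImplicit false
set_option linter.style.haveILetI false
universe u
open CategoryTheory CategoryTheory.Limits AlgebraicGeometry

namespace Groth.Agent.Helper19.BddF

open Groth.Agent.Helper11.BddFibLib

/-- étale morphisms are locally quasi-finite. -/
theorem locallyQuasiFinite_of_etale {X Y : Scheme.{u}} (f : X ⟶ Y) [Etale f] :
    LocallyQuasiFinite f := by
  rw [HasRingHomProperty.iff_appLE (P := @LocallyQuasiFinite)]
  intro U V e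
  have h := HasRingHomProperty.appLE (P := @Etale) f inferInstance U V e
  algebraize [(f.appLE U V e).hom]
  show Algebra.QuasiFinite _ _
  infer_instance

/-- field level: an étale scheme over a separably closed field with at most `n` points is finite
of degree at most `n`. -/
theorem finiteOfDegLE_of_etale_sepClosed {L : Type u} [Field L] [IsSepClosed L] {P : Scheme.{u}}
    (q : P ⟶ Spec (CommRingCat.of L)) [Etale q] [Finite P] (n : ℕ) (hn : Nat.card P ≤ n) :
    BddFib.FiniteOfDegLE (CommRingCat.of L) q n := by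
  haveI : LocallyQuasiFinite q := locallyQuasiFinite_of_etale q
  haveI : CompactSpace P := inferInstance
  haveI : QuasiCompact q := (HasAffineProperty.iff_of_isAffine (P := @QuasiCompact)).mpr ‹_›
  haveI : IsLocallyArtinian (Spec (CommRingCat.of L)) := by
    rw [Scheme.isLocallyArtinianScheme_Spec]
    show IsArtinianRing L
    infer_instance
  haveI : IsFinite q := IsFinite.of_locallyQuasiFinite q
  haveI : IsAffine P := isAffine_of_isAffineHom q
  rw [finiteOfDegLE_iff]
  refine ⟨inferInstance, ?_⟩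
  obtain ⟨ψ, hψ⟩ : ∃ ψ : CommRingCat.of L ⟶ Γ(P, ⊤),
    ψ = (Scheme.ΓSpecIso (CommRingCat.of L)).inv ≫ q.appTop := ⟨_, rfl⟩
  rw [← hψ]
  have hp : q = P.isoSpec.hom ≫ Spec.map ψ := by rw [hψ]; exact hom_eq_isoSpec_comp q
  have h0 : Spec.map ψ = P.isoSpec.inv ≫ q := by rw [hp, Iso.inv_hom_id_assoc]
  have hfin : ψ.hom.Finite := by
    rw [← IsFinite.SpecMap_iff, h0]
    infer_instance
  have het : ψ.hom.Etale := by
    rw [← HasRingHomProperty.Spec_iff (P := @Etale), h0]
    infer_instance
  letI : Algebra L Γ(P, ⊤) := ψ.hom.toAlgebra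
  haveI hfin' : Module.Finite L Γ(P, ⊤) := hfin
  haveI het' : Algebra.Etale L Γ(P, ⊤) := het
  refine ⟨hfin', ?_⟩
  haveI : Finite (PrimeSpectrum Γ(P, ⊤)) :=
    Finite.of_equiv P (Scheme.homeoOfIso P.isoSpec).toEquiv
  haveI : Fintype (PrimeSpectrum Γ(P, ⊤)) := Fintype.ofFinite _
  have h1 : Module.finrank L Γ(P, ⊤) = Nat.card (PrimeSpectrum Γ(P, ⊤)) := by
    rw [(Algebra.FormallyEtale.equivPiOfIsSepClosed L Γ(P, ⊤)).toLinearEquiv.finrank_eq,
      Module.finrank_fintype_fun_eq_card, Nat.card_eq_fintype_card]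
  have h2 : Nat.card (PrimeSpectrum Γ(P, ⊤)) = Nat.card P :=
    (Nat.card_congr (Scheme.homeoOfIso P.isoSpec).toEquiv).symm
  show Module.finrank L Γ(P, ⊤) ≤ n
  rw [h1, h2]
  exact hn

theorem fibreDegLE_of_natCard_le_of_etale {X Y : Scheme.{u}} (f : X ⟶ Y) [Etale f] (n : ℕ)
    (h : ∀ (k : Type u) [Field k] (g : Spec (CommRingCat.of k) ⟶ Y),
      Finite ↥(Limits.pullback f g) ∧ Nat.card ↥(Limits.pullback f g) ≤ n) :
    BddFib.FibreDegLE f n := by
  rw [fibreDegLE_iff_field]
  intro k _ g
  obtain ⟨φ, hφ⟩ : ∃ φ : CommRingCat.of k ⟶ CommRingCat.of (AlgebraicClosure k),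
    φ = CommRingCat.ofHom (algebraMap k (AlgebraicClosure k)) := ⟨_, rfl⟩
  have hpb : IsPullback (pullback.fst (pullback.snd f g) (Spec.map φ))
      (pullback.snd (pullback.snd f g) (Spec.map φ)) (pullback.snd f g) (Spec.map φ) :=
    IsPullback.of_hasPullback _ _
  have hbig := hpb.paste_horiz (IsPullback.of_hasPullback f g)
  obtain ⟨hfin, hcard⟩ := h (AlgebraicClosure k) (Spec.map φ ≫ g)
  have e := hbig.isoPullback
  haveI : Finite ↥(pullback (pullback.snd f g) (Spec.map φ)) :=
    Finite.of_equiv _ (Scheme.homeoOfIso e).toEquiv.symm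
  have hcardP : Nat.card ↥(pullback (pullback.snd f g) (Spec.map φ)) ≤ n := by
    rw [Nat.card_congr (Scheme.homeoOfIso e).toEquiv]; exact hcard
  have hq := finiteOfDegLE_of_etale_sepClosed
    (pullback.snd (pullback.snd f g) (Spec.map φ)) n hcardP
  haveI : IsAffine (pullback f g) :=
    isAffine_of_finite_baseChange (Field.toIsField k) (Field.toIsField (AlgebraicClosure k)) φ
      (pullback.snd f g) _ _ hpb n hq
  exact finiteOfDegLE_descent (Field.toIsField k) (Field.toIsField (AlgebraicClosure k)) φ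
      (pullback.snd f g) _ _ hpb n hq

end Groth.Agent.Helper19.BddF
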