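import Mathlib
import Groth.Agent.Lib.Helper11.BddFib10
import Groth.Agent.Lib.Helper19.BddF.Affine

set_option autoImplicit false
set_option linter.style.haveILetI false
universe u v
open CategoryTheory CategoryTheory.Limits AlgebraicGeometry TensorProduct

namespace Groth.Agent.Helper19.BddF

open Groth.Agent.Helper11.BddFibLib

theorem ringDegLE_of_injective_pi {K A : CommRingCat.{u}} (hK : IsField K) {ι : Type v}
    [Fintype ι] (B : ι → CommRingCat.{u}) (ψ : K ⟶ A) (θ : ∀ i, A ⟶ B i) (n : ι → ℕ)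
    (hinj : ∀ s : A, (∀ i, (θ i).hom s = 0) → s = 0)
    (hi : ∀ i, RingDegLE (ψ ≫ θ i) (n i)) : RingDegLE ψ (∑ i, n i) := by
  letI := hK.toField
  letI : Algebra K A := ψ.hom.toAlgebra
  letI : ∀ i, Algebra K (B i) := fun i => (ψ ≫ θ i).hom.toAlgebra
  haveI hfin : ∀ i, Module.Finite K (B i) := fun i => (hi i).1
  have hrank : ∀ i, Module.finrank K (B i) ≤ n i := fun i => (hi i).2
  let Λ : A →ₗ[K] (∀ i, B i) := LinearMap.pi fun i =>
    { toFun := fun a => (θ i).hom a
      map_add' := fun a b => map_add (θ i).hom a b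
      map_smul' := fun c a => by
        simp only [RingHom.id_apply]
        rw [Algebra.smul_def, Algebra.smul_def, map_mul]
        rfl }
  have hΛ : Function.Injective Λ := by
    rw [← LinearMap.ker_eq_bot, LinearMap.ker_eq_bot']
    intro a ha
    exact hinj a (fun i => congrFun ha i)
  haveI : Module.Finite K (∀ i, B i) := inferInstance
  haveI : Module.Finite K A := Module.Finite.of_injective Λ hΛ
  refine ⟨inferInstance, ?_⟩
  calc Module.finrank K A ≤ Module.finrank K (∀ i, B i) :=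
        LinearMap.finrank_le_finrank_of_injective hΛ
    _ = ∑ i, Module.finrank K (B i) := Module.finrank_pi_fintype K
    _ ≤ ∑ i, n i := Finset.sum_le_sum fun i _ => hrank i

theorem finiteOfDegLE_of_family {k : Type u} [Field k] {T : Scheme.{u}}
    (p : T ⟶ Spec (CommRingCat.of k)) [LocallyQuasiFinite p]
    {ι : Type v} [Fintype ι] (Ti : ι → Scheme.{u}) (w : ∀ i, Ti i ⟶ T) (n : ι → ℕ)
    (hcov : ∀ x : T, ∃ i, ∃ y : Ti i, (w i) y = x)
    (hzero : ∀ s : Γ(T, ⊤), (∀ i, (w i).appTop.hom s = 0) → s = 0)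
    (hi : ∀ i, BddFib.FiniteOfDegLE (CommRingCat.of k) (w i ≫ p) (n i)) :
    BddFib.FiniteOfDegLE (CommRingCat.of k) p (∑ i, n i) := by
  haveI : Finite T := by
    have hfin : ∀ i, Finite ↥(Ti i) := fun i =>
      (card_le_of_finiteOfDegLE (Field.toIsField k) _ _ (hi i)).1
    let F : (Σ i, ↥(Ti i)) → ↥T := fun x => (w x.1) x.2
    have hF : Function.Surjective F := fun x => by
      obtain ⟨i, y, hy⟩ := hcov x
      exact ⟨⟨i, y⟩, hy⟩
    exact Finite.of_surjective F hF
  haveI : CompactSpace T := inferInstance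
  haveI : QuasiCompact p := (HasAffineProperty.iff_of_isAffine (P := @QuasiCompact)).mpr ‹_›
  haveI : IsLocallyArtinian (Spec (CommRingCat.of k)) := by
    rw [Scheme.isLocallyArtinianScheme_Spec]
    show IsArtinianRing k
    infer_instance
  haveI : IsFinite p := IsFinite.of_locallyQuasiFinite p
  haveI : IsAffine T := isAffine_of_isAffineHom p
  rw [finiteOfDegLE_iff]
  refine ⟨inferInstance, ?_⟩
  refine ringDegLE_of_injective_pi (Field.toIsField k) (fun i => Γ(Ti i, ⊤)) _
    (fun i => (w i).appTop) n hzero ?_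
  intro i
  have := ((finiteOfDegLE_iff _ _).mp (hi i)).2
  rw [Scheme.Hom.comp_appTop] at this
  rw [Category.assoc]
  exact this

/-- union step: a bound on each member of a finite open cover gives a bound. -/
theorem fibreDegLE_of_openCover {X Y : Scheme.{u}} (f : X ⟶ Y) [LocallyQuasiFinite f]
    (𝒰 : X.OpenCover) [Fintype 𝒰.I₀] (n : 𝒰.I₀ → ℕ)
    (h : ∀ i, BddFib.FibreDegLE (𝒰.f i ≫ f) (n i)) :
    BddFib.FibreDegLE f (∑ i, n i) := by
  rw [fibreDegLE_iff_field]
  intro k _ g
  have hi : ∀ i, BddFib.FiniteOfDegLE (CommRingCat.of k) (pullback.snd (𝒰.f i ≫ f) g) (n i) :=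
    fun i => finiteOfDegLE_of_fibreDegLE _ _ (h i) k g
  have hsnd : ∀ i : 𝒰.I₀, pullback.map (𝒰.f i ≫ f) g f g (𝒰.f i) (𝟙 _) (𝟙 _) (by simp) (by simp) ≫
      pullback.snd f g = pullback.snd (𝒰.f i ≫ f) g := by
    intro i
    simp only [pullback.map, Category.comp_id]
    exact pullback.lift_snd _ _ _
  refine finiteOfDegLE_of_family (pullback.snd f g) (fun i : 𝒰.I₀ => pullback (𝒰.f i ≫ f) g)
    (fun i : 𝒰.I₀ => pullback.map (𝒰.f i ≫ f) g f g (𝒰.f i) (𝟙 _) (𝟙 _) (by simp) (by simp))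
    n ?_ ?_ ?_
  · intro x
    obtain ⟨y, hy⟩ := (Scheme.Pullback.openCoverOfLeft 𝒰 f g).covers x
    exact ⟨(Scheme.Pullback.openCoverOfLeft 𝒰 f g).idx x, y, hy⟩
  · intro s hs
    exact Scheme.zero_of_zero_cover s (Scheme.Pullback.openCoverOfLeft 𝒰 f g) hs
  · intro i
    rw [hsnd i]
    exact hi i

end Groth.Agent.Helper19.BddF
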