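import Mathlib
import Groth.Agent.Lib.Helper19.BddF.Union
import Groth.Agent.S7436
import Groth.Agent.S7439

set_option autoImplicit false
set_option linter.style.haveILetI false
universe u v
open CategoryTheory CategoryTheory.Limits AlgebraicGeometry TensorProduct

namespace Groth.Agent.Helper19.BddF

open Groth.Agent.Helper11.BddFibLib

theorem univBounded_of_locallyQuasiFinite {X Y : Scheme.{u}} (f : X ⟶ Y) [LocallyQuasiFinite f]
    [LocallyOfFiniteType f] [CompactSpace X] : BddFib.UnivBounded f := by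
  have hloc : ∀ x : X, ∃ W : X.Opens, x ∈ W ∧ ∃ n, BddFib.FibreDegLE (W.ι ≫ f) n := by
    intro x
    obtain ⟨V, hV, hxV, -⟩ :=
      exists_isAffineOpen_mem_and_subset (X := Y) (x := f x) (U := ⊤) trivial
    obtain ⟨W, hW, hxW, hWV⟩ :=
      exists_isAffineOpen_mem_and_subset (X := X) (x := x) (U := f ⁻¹ᵁ V) hxV
    refine ⟨W, hxW, ?_⟩
    have e : W ≤ f ⁻¹ᵁ V := hWV
    haveI : IsAffine W.toScheme := hW
    haveI : IsAffine V.toScheme := hV
    obtain ⟨n, hn⟩ := exists_fibreDegLE_of_isAffine (f.resLE V W e)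
    refine ⟨n * 1, ?_⟩
    rw [← Scheme.Hom.resLE_comp_ι f e]
    exact Groth.Agent.S7436.result (f.resLE V W e) V.ι n 1 hn (Groth.Agent.S7439.result V.ι)
  choose W hxW n hn using hloc
  obtain ⟨t, ht⟩ := CompactSpace.elim_nhds_subcover (fun x => (W x : Set X))
    (fun x => (W x).isOpen.mem_nhds (hxW x))
  have hcov : TopologicalSpace.IsOpenCover (fun x : t => W x.1) := by
    refine TopologicalSpace.IsOpenCover.mk ?_
    ext y
    simp only [TopologicalSpace.Opens.coe_iSup, Set.mem_iUnion, SetLike.mem_coe,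
      TopologicalSpace.Opens.coe_top, Set.mem_univ, iff_true]
    have hy : y ∈ ⋃ x ∈ t, (W x : Set X) := by rw [ht]; trivial
    simp only [Set.mem_iUnion] at hy
    obtain ⟨x, hx, hyx⟩ := hy
    exact ⟨⟨x, hx⟩, hyx⟩
  letI : Fintype (X.openCoverOfIsOpenCover (fun x : t => W x.1) hcov).I₀ :=
    inferInstanceAs (Fintype t)
  exact ⟨_, fibreDegLE_of_openCover f (X.openCoverOfIsOpenCover (fun x : t => W x.1) hcov)
    (fun x => n x.1) (fun x => hn x.1)⟩

end Groth.Agent.Helper19.BddF
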