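import Mathlib
import Groth.Agent.Lib.Helper11.BddFib3
import Groth.Agent.Lib.Helper11.BddFib2

/-!
# Sum of residue degrees of a finite scheme over a field
-/

set_option autoImplicit false
universe u

open AlgebraicGeometry CategoryTheory CategoryTheory.Limits TopologicalSpace Opposite

namespace Groth.Agent.Helper19.BddF

section Alg

/-- CRT bound: quotient fields of a finite-dimensional algebra. -/
theorem sum_finrank_le {k B : Type*} [Field k] [CommRing B] [Algebra k B] [Module.Finite k B]
    {ι : Type*} [Fintype ι] (L : ι → Type*) [∀ i, Field (L i)] [∀ i, Algebra k (L i)]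
    (e : ∀ i, B →ₐ[k] L i) (hsurj : ∀ i, Function.Surjective (e i))
    (hker : ∀ i j, i ≠ j → RingHom.ker (e i).toRingHom ≠ RingHom.ker (e j).toRingHom) :
    ∑ i, Module.finrank k (L i) ≤ Module.finrank k B := by
  have hmax : ∀ i, (RingHom.ker (e i).toRingHom).IsMaximal :=
    fun i => RingHom.ker_isMaximal_of_surjective _ (hsurj i)
  have hcop : Pairwise (Function.onFun IsCoprime fun i => RingHom.ker (e i).toRingHom) := by
    intro i j hij
    exact Ideal.isCoprime_of_isMaximal (hker i j hij)
  let Φ : B →ₗ[k] (∀ i, L i) := LinearMap.pi fun i => (e i).toLinearMap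
  have hΦ : Function.Surjective Φ := by
    intro y
    choose x hx using fun i => hsurj i (y i)
    obtain ⟨r, hr⟩ := Ideal.exists_forall_sub_mem_ideal hcop x
    refine ⟨r, funext fun i => ?_⟩
    have h1 : (e i) (r - x i) = 0 := hr i
    rw [map_sub, sub_eq_zero] at h1
    change e i r = y i
    rw [h1, hx]
  haveI : ∀ i, Module.Finite k (L i) := fun i =>
    Module.Finite.of_surjective (e i).toLinearMap (hsurj i)
  rw [← Module.finrank_pi_fintype k (M := L)]
  exact LinearMap.finrank_le_finrank_of_surjective hΦ

end Alg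

section Sch

variable {T : Scheme.{u}} [IsAffine T]

/-- the evaluation maps at distinct points of an affine scheme have distinct kernels -/
theorem ker_Γevaluation_ne {x y : T} (hxy : x ≠ y) :
    RingHom.ker (T.Γevaluation x).hom ≠ RingHom.ker (T.Γevaluation y).hom := by
  intro h
  apply hxy
  -- T0 + basic opens form a basis
  refine Inseparable.eq ?_
  have hb : IsTopologicalBasis (SetLike.coe '' Set.range T.basicOpen) := isBasis_basicOpen T
  rw [hb.inseparable_iff]
  rintro _ ⟨_, ⟨b, rfl⟩, rfl⟩
  have h1 : (b ∈ RingHom.ker (T.Γevaluation x).hom) ↔ b ∈ RingHom.ker (T.Γevaluation y).hom := by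
    rw [h]
  rw [RingHom.mem_ker, RingHom.mem_ker] at h1
  have hx := T.evaluation_eq_zero_iff_notMem_basicOpen x (U := ⊤) trivial b
  have hy := T.evaluation_eq_zero_iff_notMem_basicOpen y (U := ⊤) trivial b
  change x ∈ T.basicOpen b ↔ y ∈ T.basicOpen b
  constructor
  · intro hxb
    by_contra hyb
    exact (hx.mp (h1.mpr (hy.mpr hyb))) hxb
  · intro hyb
    by_contra hxb
    exact (hy.mp (h1.mp (hx.mpr hxb))) hyb

/-- evaluation at a point of an artinian affine scheme is surjective -/
theorem Γevaluation_surjective [IsArtinianRing Γ(T, ⊤)] (x : T) :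
    Function.Surjective (T.Γevaluation x).hom := by
  intro z
  obtain ⟨w, rfl⟩ := T.residue_surjective x z
  let x' : (⊤ : T.Opens) := ⟨x, trivial⟩
  have hloc := (isAffineOpen_top T).isLocalization_stalk x'
  letI := TopCat.Presheaf.algebra_section_stalk T.presheaf x'
  obtain ⟨⟨a, s⟩, has⟩ := IsLocalization.surj
    ((isAffineOpen_top T).primeIdealOf x').asIdeal.primeCompl w
  simp only at has
  have hev : ∀ b : Γ(T, ⊤), (T.Γevaluation x).hom b =
      (T.residue x).hom
        (algebraMap Γ(T, ⊤) (T.presheaf.stalk x) b) := fun b => rfl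
  have h1 : (T.residue x).hom w *
      (T.Γevaluation x).hom s = (T.Γevaluation x).hom a := by
    rw [hev, hev, ← map_mul, has]
  have hunit : IsUnit ((T.Γevaluation x).hom s) := by
    rw [hev]
    exact (IsLocalization.map_units (T.presheaf.stalk x) s).map _
  have hprime : (RingHom.ker (T.Γevaluation x).hom).IsPrime := RingHom.ker_isPrime _
  have hmax : (RingHom.ker (T.Γevaluation x).hom).IsMaximal :=
    IsArtinianRing.isMaximal_of_isPrime _
  have hs : (s : Γ(T, ⊤)) ∉ RingHom.ker (T.Γevaluation x).hom := by
    rw [RingHom.mem_ker]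
    exact hunit.ne_zero
  obtain ⟨y, i, hi, hyi⟩ := hmax.exists_inv hs
  have h2 : (T.Γevaluation x).hom y * (T.Γevaluation x).hom s = 1 := by
    have := congrArg (T.Γevaluation x).hom hyi
    rw [map_add, map_mul, (RingHom.mem_ker).mp hi, add_zero, map_one] at this
    exact this
  refine ⟨a * y, ?_⟩
  rw [map_mul, ← h1, mul_assoc, mul_comm ((T.Γevaluation x).hom s), h2, mul_one]

end Sch

open Groth.Agent.Helper11.BddFibLib in
theorem finsum_residueDegree_le {K : Type u} [Field K] {T : Scheme.{u}}
    (p : T ⟶ Spec (CommRingCat.of K)) (n : ℕ)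
    (hp : BddFib.FiniteOfDegLE (CommRingCat.of K) p n) :
    Finite T ∧ ∑ᶠ x : T, p.residueDegree x ≤ n := by
  have hfinT := (card_le_of_finiteOfDegLE (Field.toIsField K) p n hp).1
  refine ⟨hfinT, ?_⟩
  obtain ⟨hT, hfin, hrank⟩ := hp
  letI algK : Algebra K Γ(T, ⊤) := BddFib.secAlgebra (CommRingCat.of K) p
  haveI : Module.Finite K Γ(T, ⊤) := hfin
  haveI : IsArtinianRing Γ(T, ⊤) := IsArtinianRing.of_finite K Γ(T, ⊤)
  letI algL : ∀ x : T, Algebra K (T.residueField x) := fun x =>
    ((T.Γevaluation x).hom.comp (algebraMap K Γ(T, ⊤))).toAlgebra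
  let e : ∀ x : T, Γ(T, ⊤) →ₐ[K] T.residueField x := fun x =>
    { (T.Γevaluation x).hom with commutes' := fun c => rfl }
  have hsurj : ∀ x, Function.Surjective (e x) := fun x => Γevaluation_surjective x
  cases nonempty_fintype T
  have hsum := sum_finrank_le (k := K) (B := Γ(T, ⊤)) (fun x : T => T.residueField x) e hsurj
    (fun x y hxy => ker_Γevaluation_ne hxy)
  rw [finsum_eq_sum_of_fintype]
  refine le_trans (Finset.sum_le_sum fun x _ => ?_) (hsum.trans hrank)
  -- the local comparison
  haveI : Module.Finite K (T.residueField x) :=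
    Module.Finite.of_surjective (e x).toLinearMap (hsurj x)
  letI a1 : Algebra ((Spec (CommRingCat.of K)).residueField (p x)) (T.residueField x) :=
    (p.residueFieldMap x).hom.toAlgebra
  letI a2 : Algebra K ((Spec (CommRingCat.of K)).residueField (p x)) :=
    (((Spec (CommRingCat.of K)).Γevaluation (p x)).hom.comp
      (Scheme.ΓSpecIso (CommRingCat.of K)).inv.hom).toAlgebra
  haveI : IsScalarTower K ((Spec (CommRingCat.of K)).residueField (p x)) (T.residueField x) := by
    refine IsScalarTower.of_algebraMap_eq fun c => ?_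
    exact (Scheme.Γevaluation_naturality_apply p x _).symm
  have hdvd : Module.finrank ((Spec (CommRingCat.of K)).residueField (p x)) (T.residueField x) ∣
      Module.finrank K (T.residueField x) := Module.finrank_dvd_finrank_left ..
  have hpos : 0 < Module.finrank K (T.residueField x) := Module.finrank_pos
  exact Nat.le_of_dvd hpos hdvd

end Groth.Agent.Helper19.BddF
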